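import Mathlib

/-!
# Functions on base changes of a scheme with affine generic fibre
-/

set_option autoImplicit false
set_option linter.style.haveILetI false
set_option maxHeartbeats 400000
set_option backward.isDefEq.respectTransparency.types false
universe u

open CategoryTheory CategoryTheory.Limits AlgebraicGeometry
open scoped TensorProduct

noncomputable section

namespace Groth.Agent.AdH023

theorem tensor_eq_zero {K A M : Type u} [Field K] [CommRing A] [Algebra K A] [CommRing M] [Algebra K M]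
    {ι : Type*} {B : ι → Type u} [∀ i, CommRing (B i)] [∀ i, Algebra K (B i)] (χ : ∀ i, A →ₐ[K] B i)
    (hχ : ∀ a, (∀ i, χ i a = 0) → a = 0) (x : A ⊗[K] M)
    (h : ∀ i, Algebra.TensorProduct.map (χ i) (AlgHom.id K M) x = 0) : x = 0 := by
  classical
  let b := Module.Free.chooseBasis K M
  have key : ∀ i (y : A ⊗[K] M) n, TensorProduct.equivFinsuppOfBasisRight b
      (Algebra.TensorProduct.map (χ i) (AlgHom.id K M) y) n =
      χ i (TensorProduct.equivFinsuppOfBasisRight b y n) := fun i y n => by
    induction y using TensorProduct.induction_on with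
    | zero => simp
    | tmul a m => simp
    | add y z hy hz => simp [hy, hz]
  apply (TensorProduct.equivFinsuppOfBasisRight b).injective
  rw [map_zero]
  ext n
  exact hχ _ fun i => by rw [← key, h i]; simp

theorem fn_eq_zero {R K A : Type u} [CommRing R] [Field K] [CommRing A] [Algebra K A] (iK : R →+* K)
    {X : Scheme.{u}} (p : X ⟶ Spec (CommRingCat.of R))
    (haff : IsAffine ↑(pullback p (Spec.map (CommRingCat.ofHom iK))))
    {ι : Type*} {B : ι → Type u} [∀ i, CommRing (B i)] [∀ i, Algebra K (B i)] (χ : ∀ i, A →ₐ[K] B i)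
    (hχ : ∀ a, (∀ i, χ i a = 0) → a = 0)
    (a : Γ(pullback (Spec.map (CommRingCat.ofHom (algebraMap K A)) ≫ Spec.map (CommRingCat.ofHom iK)) p, ⊤))
    (h : ∀ (i) (W : Scheme.{u}) (f : W ⟶ Spec (CommRingCat.of (B i)))
      (q : W ⟶ pullback (Spec.map (CommRingCat.ofHom (algebraMap K A)) ≫ Spec.map (CommRingCat.ofHom iK)) p),
      q ≫ pullback.fst _ _ = f ≫ Spec.map (CommRingCat.ofHom (χ i).toRingHom) → q.appTop a = 0) : a = 0 := by
  let s := Spec.map (CommRingCat.ofHom iK)
  let H := pullback s p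
  haveI : IsAffine H := haveI := haff; IsAffine.of_isIso (pullbackSymmetry s p).hom
  let str : CommRingCat.of K ⟶ Γ(H, ⊤) := (Scheme.ΓSpecIso (CommRingCat.of K)).inv ≫ (pullback.fst s p).appTop
  letI : Algebra K Γ(H, ⊤) := str.hom.toAlgebra
  have hstr : Spec.map (CommRingCat.ofHom (algebraMap K Γ(H, ⊤))) = H.isoSpec.inv ≫ pullback.fst s p := by
    rw [eq_comm, Iso.inv_comp_eq]
    apply ext_of_isAffine
    show _ = (H.isoSpec.hom ≫ Spec.map str).appTop
    simp [str, Scheme.isoSpec_hom, Scheme.toSpecΓ_appTop]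
  let θ := (pullbackSpecIso K A Γ(H, ⊤)).inv ≫
    pullback.map _ _ _ (pullback.fst s p) (𝟙 _) H.isoSpec.inv (𝟙 _) (by simp) (by rw [hstr, Category.comp_id]) ≫
      (pullbackRightPullbackFstIso s p (Spec.map (CommRingCat.ofHom (algebraMap K A)))).hom
  haveI : IsIso θ := inferInstance
  have hθ : θ ≫ pullback.fst _ _ = Spec.map (CommRingCat.ofHom Algebra.TensorProduct.includeLeftRingHom) := by
    simp only [θ, Category.assoc, pullbackRightPullbackFstIso_hom_fst, pullback.lift_fst, Category.comp_id]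
    exact pullbackSpecIso_inv_fst K A _
  haveI : IsIso θ.appTop := inferInstanceAs (IsIso (θ.app ⊤))
  have hinj : Function.Injective θ.appTop := (ConcreteCategory.bijective_of_isIso θ.appTop).1
  apply hinj
  rw [map_zero]
  apply (ConcreteCategory.bijective_of_isIso (Scheme.ΓSpecIso (CommRingCat.of (A ⊗[K] Γ(H, ⊤)))).hom).1
  rw [map_zero]
  refine tensor_eq_zero χ hχ _ fun i => ?_
  let m := Algebra.TensorProduct.map (χ i) (AlgHom.id K Γ(H, ⊤))
  have h0 := h i _ (Spec.map (CommRingCat.ofHom (Algebra.TensorProduct.includeLeftRingHom : B i →+* B i ⊗[K] Γ(H, ⊤))))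
    (Spec.map (CommRingCat.ofHom m.toRingHom) ≫ θ) (by
      rw [Category.assoc, hθ, ← Spec.map_comp, ← Spec.map_comp, ← CommRingCat.ofHom_comp, ← CommRingCat.ofHom_comp]
      refine congrArg (fun t => Spec.map (CommRingCat.ofHom t)) (RingHom.ext fun x => ?_)
      show m (x ⊗ₜ 1) = χ i x ⊗ₜ 1
      simp [m])
  rw [Scheme.Hom.comp_appTop, ConcreteCategory.comp_apply] at h0
  refine (ConcreteCategory.congr_hom (Scheme.ΓSpecIso_naturality (CommRingCat.ofHom m.toRingHom)) (θ.appTop a)).symm.trans ?_
  rw [ConcreteCategory.comp_apply, h0, map_zero]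

end Groth.Agent.AdH023
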