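import Groth.Agent.Lib.GaExt23.DualH1
import Groth.Agent.Lib.AdH023.Fn

/-!
# Characters vanishing on a schematically dense family
-/

set_option autoImplicit false
set_option linter.style.haveILetI false
set_option maxHeartbeats 400000
set_option backward.isDefEq.respectTransparency false
set_option backward.isDefEq.respectTransparency.types false
universe u

open CategoryTheory CategoryTheory.Limits MonoidalCategory CartesianMonoidalCategory MonObj AlgebraicGeometry Opposite
open Groth.Agent.GaExt23

noncomputable section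

namespace Groth.Agent.AdH023

variable {X : Scheme.{u}} {G : Over X} [GrpObj G] [IsCommMonObj G]

theorem dual_eq_zero {U : Over X} {I : Type*} {U' : I → Over X} (m : ∀ i, U' i ⟶ U)
    (hjoint : ∀ a : Γ((W G U).left, ⊤), (∀ i, (Wf (G := G) (m i)).left.appTop a = 0) → a = 0)
    (s : (CGrpSh2.dualSh Scheme.fppfPrecoverage (CGrpSh.pts Scheme.fppfPrecoverage G)).obj.obj (op U))
    (h : ∀ i, (CGrpSh2.dualSh Scheme.fppfPrecoverage (CGrpSh.pts Scheme.fppfPrecoverage G)).obj.map (m i).op s = 0) :
    s = 0 := by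
  haveI := mono_evF (G := G)
  haveI : Mono (((sheafToPresheaf _ _) ⋙ (evaluation _ _).obj (op U)).map (evF G)) := inferInstance
  refine (AddCommGrpCat.mono_iff_injective _).1 this ?_
  show (evF G).hom.app (op U) s = (evF G).hom.app (op U) 0
  rw [map_zero]
  apply toPt_injective
  rw [toPt_zero]
  apply GmPts.gmFn_injective
  show Red.gmFn (toPt G ((evF G).hom.app (op U) s)) = Red.gmFn (1 : W G U ⟶ Red.Gm X)
  rw [GmPts.gmFn_one, ← sub_eq_zero]
  refine hjoint _ fun i => ?_
  have h1 := congrArg (toPt G) (NatTrans.naturality_apply (evF G).hom (m i).op s)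
  rw [h i, map_zero, toPt_zero] at h1
  have h2 : Wf (m i) ≫ toPt G ((evF G).hom.app (op U) s) = (1 : W G (U' i) ⟶ Red.Gm X) := h1.symm
  rw [map_sub, map_one, ← GmPts.gmFn_comp, h2, GmPts.gmFn_one, sub_self]

/-- The joint injectivity for functions on the pullbacks. -/
theorem joint_of_affine_generic {R K A : Type u} [CommRing R] [Field K] [CommRing A] [Algebra K A] (iK : R →+* K)
    (G : Over (Spec (CommRingCat.of R)))
    (haff : IsAffine ↑(pullback G.hom (Spec.map (CommRingCat.ofHom iK))))
    {I : Type*} {B : I → Type u} [∀ i, CommRing (B i)] [∀ i, Algebra K (B i)] (χ : ∀ i, A →ₐ[K] B i)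
    (hχ : ∀ a, (∀ i, χ i a = 0) → a = 0)
    (u₀ : Spec (CommRingCat.of A) ⟶ Spec (CommRingCat.of R))
    (hu : u₀ = Spec.map (CommRingCat.ofHom (algebraMap K A)) ≫ Spec.map (CommRingCat.ofHom iK))
    (v : ∀ i, Spec (CommRingCat.of (B i)) ⟶ Spec (CommRingCat.of R)) (m : ∀ i, Over.mk (v i) ⟶ Over.mk u₀)
    (hm : ∀ i, (m i).left = Spec.map (CommRingCat.ofHom (χ i).toRingHom))
    (a : Γ((W G (Over.mk u₀)).left, ⊤)) (h : ∀ i, (Wf (G := G) (m i)).left.appTop a = 0) : a = 0 := by
  subst hu
  refine fn_eq_zero iK G.hom haff χ hχ a fun i T f q hq => ?_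
  have hv := Over.w (m i)
  rw [hm] at hv
  let q' : T ⟶ (W G (Over.mk (v i))).left := pullback.lift f (q ≫ pullback.snd _ _) (by
    show f ≫ v i = _
    rw [show v i = Spec.map (CommRingCat.ofHom (χ i).toRingHom) ≫
      (Spec.map (CommRingCat.ofHom (algebraMap K A)) ≫ Spec.map (CommRingCat.ofHom iK)) from hv.symm,
      ← Category.assoc, ← hq, Category.assoc, Category.assoc, pullback.condition])
  have e : q = q' ≫ (Wf (G := G) (m i)).left := by
    rw [Wf_eq]
    refine pullback.hom_ext ?_ ?_
    · rw [hq, Category.assoc]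
      show _ = q' ≫ pullback.lift _ _ _ ≫ pullback.fst _ _
      rw [pullback.lift_fst]
      show _ = q' ≫ pullback.fst _ _ ≫ (m i).left
      rw [hm, ← Category.assoc, pullback.lift_fst]
    · rw [Category.assoc]
      show _ = q' ≫ pullback.lift _ _ _ ≫ pullback.snd _ _
      rw [pullback.lift_snd]
      show _ = q' ≫ pullback.snd _ _
      rw [pullback.lift_snd]
  rw [e, Scheme.Hom.comp_appTop, ConcreteCategory.comp_apply]
  exact (congrArg q'.appTop (h i)).trans (map_zero _)

end Groth.Agent.AdH023
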