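import Groth.Prelude.Def_HRes

/-!
# Joint injectivity of restriction maps in degree zero
-/

set_option autoImplicit false
set_option maxHeartbeats 200000
universe u

open CategoryTheory CategoryTheory.Limits AlgebraicGeometry Opposite CategoryTheory.Abelian

noncomputable section

namespace Groth.Agent.AdH023

variable {C : Type (u + 1)} [Category.{u} C] {J : GrothendieckTopology C}
  [HasSheafify J AddCommGrpCat.{u + 1}] [HasExt.{u + 1} (Sheaf J AddCommGrpCat.{u + 1})]

theorem equiv₀_mk₀ (F : Sheaf J AddCommGrpCat.{u + 1}) {T : C} (hT : IsTerminal T)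
    (φ : (constantSheaf J AddCommGrpCat.{u + 1}).obj (AddCommGrpCat.of (ULift.{u + 1} ℤ)) ⟶ F) :
    Sheaf.H.equiv₀ F hT (Ext.mk₀ φ) = φ.hom.app (op T)
      ((toSheafify J ((Functor.const _).obj (AddCommGrpCat.of (ULift.{u + 1} ℤ)))).app (op T) (ULift.up 1)) := by
  have h2 : Ext.addEquiv₀ (Ext.mk₀ φ) = φ := by
    apply (Ext.mk₀_bijective _ _).1
    simp [Ext.addEquiv₀, Ext.mk₀_homEquiv₀_apply]
  simp only [Sheaf.H.equiv₀, AddEquiv.trans_apply, h2, Adjunction.homAddEquiv_apply]
  have ev : ∀ (G : AddCommGrpCat.{u + 1}) (g : AddCommGrpCat.of (ULift.{u + 1} ℤ) ⟶ G),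
      G.uliftZMultiplesAddEquiv g = g.hom (ULift.up 1) := fun _ _ => rfl
  rw [ev, Adjunction.homEquiv_unit, constantSheafAdj, Adjunction.comp_unit_app]
  rfl

/-- A morphism from the constant sheaf is zero when its value on `1` has zero restrictions on a separating family. -/
theorem hom_eq_zero_of_app (F : Sheaf J AddCommGrpCat.{u + 1}) {T : C} (hT : IsTerminal T) {ι : Type*} (U : ι → C)
    (φ : (constantSheaf J AddCommGrpCat.{u + 1}).obj (AddCommGrpCat.of (ULift.{u + 1} ℤ)) ⟶ F)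
    (hU : ∀ i, φ.hom.app (op (U i)) = 0)
    (hsep : ∀ s : F.obj.obj (op T), (∀ i, F.obj.map (hT.from (U i)).op s = 0) → s = 0) : φ = 0 := by
  apply (Ext.mk₀_bijective _ F).1
  apply (Sheaf.H.equiv₀ F hT).injective
  rw [Ext.mk₀_zero, map_zero, equiv₀_mk₀]
  refine hsep _ fun i => ?_
  rw [← NatTrans.naturality_apply φ.hom, hU i]
  rfl

end Groth.Agent.AdH023
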