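import Groth.Agent.Lib.AdH023.Res
import Groth.Agent.Lib.AdH023.Dual
import Groth.Prelude.Def_AdFn

/-!
# Characters over the adeles
-/

set_option autoImplicit false
set_option linter.style.haveILetI false
set_option backward.isDefEq.respectTransparency.types false
set_option maxHeartbeats 200000
universe u

open CategoryTheory CategoryTheory.Limits AlgebraicGeometry Opposite

noncomputable section

namespace Groth.Agent.AdH023

variable {k K : Type u} [Field k] [Field K] [Algebra k K] [AdFn.HasFinitePoles k K]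

/-- The component as an algebra map. -/
def comp (v : FunFld.Place k K) : AdFn.AdeleRing k K →ₐ[K] AdFn.Kv v :=
  { AdFn.AdeleRing.proj v with commutes' := fun r => rfl }

theorem comp_eq (v : FunFld.Place k K) : (comp v).toRingHom = AdFn.AdeleRing.proj v := rfl

theorem comp_joint (b : AdFn.AdeleRing k K) (hb : ∀ v, comp v b = 0) : b = 0 := Subtype.ext (funext hb)

theorem eq_zero_generic {R F A : Type u} [CommRing R] [Field F] [CommRing A] [Algebra F A] (iK : R →+* F)
    (G : Over (Spec (CommRingCat.of R))) [GrpObj G] [IsCommMonObj G]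
    (haff : IsAffine ↑(pullback G.hom (Spec.map (CommRingCat.ofHom iK))))
    {I : Type u} {B : I → Type u} [∀ i, CommRing (B i)] [∀ i, Algebra F (B i)] (χ : ∀ i, A →ₐ[F] B i)
    (hχ : ∀ a, (∀ i, χ i a = 0) → a = 0) (φA : R →+* A) (hφA : φA = (algebraMap F A).comp iK) (φB : ∀ i, R →+* B i)
    (g : ∀ i, AdFn.specOf (φB i) ⟶ AdFn.specOf φA) (hg : ∀ i, (g i).left = Spec.map (CommRingCat.ofHom (χ i).toRingHom))
    (x : BigSite.HU Scheme.fppfPrecoverage (CGrpSh2.dualSh Scheme.fppfPrecoverage (CGrpSh.pts Scheme.fppfPrecoverage G)) 0 (AdFn.specOf φA))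
    (h : ∀ i, HRes.resHU Scheme.fppfPrecoverage (CGrpSh2.dualSh Scheme.fppfPrecoverage (CGrpSh.pts Scheme.fppfPrecoverage G)) 0 (g i) x = 0) :
    x = 0 := by
  refine eq_zero_of_resHU _ _ g (fun s hs => ?_) x h
  refine dual_eq_zero (fun i => (Over.map (AdFn.specOf φA).hom).map
    (Over.mkIdTerminal.from ((Over.map (g i).left).obj (Over.mk (𝟙 _))))) ?_ s hs
  intro a ha
  refine joint_of_affine_generic iK G haff χ hχ _ ?_ _ _ (fun i => ?_) a ha
  · show 𝟙 _ ≫ Spec.map _ = _
    rw [Category.id_comp, ← Spec.map_comp, ← CommRingCat.ofHom_comp, hφA]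
  · rw [← hg i]
    have h1 := Over.w (Over.mkIdTerminal.from ((Over.map (g i).left).obj (Over.mk (𝟙 (AdFn.specOf (φB i)).left))))
    exact (Category.comp_id _).symm.trans (h1.trans (Category.id_comp _))

theorem injective_locProdS (S : Set (FunFld.Place k K))
    (G : Over (Spec (CommRingCat.of (AdFn.SInt S)))) [GrpObj G] [IsCommMonObj G]
    (haff : IsAffine ↑(pullback G.hom (Spec.map (CommRingCat.ofHom (AdFn.SInt.toK S))))) :
    Function.Injective (AdFn.locProdS Scheme.fppfPrecoverage S
      (CGrpSh2.dualSh Scheme.fppfPrecoverage (CGrpSh.pts Scheme.fppfPrecoverage G)) 0) :=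
  (injective_iff_map_eq_zero _).2 fun x hx =>
    eq_zero_generic (AdFn.SInt.toK S) G haff comp comp_joint (AdFn.SInt.toAd S) rfl (AdFn.SInt.toKv S)
      (AdFn.adProjSHom S) (fun _ => rfl) x fun v => congrFun hx v

end Groth.Agent.AdH023
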