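import Groth.Agent.Lib.AdH023.H0

/-!
# Restriction maps on big site cohomology in degree zero
-/

set_option autoImplicit false
set_option maxHeartbeats 200000
universe u

open CategoryTheory CategoryTheory.Limits AlgebraicGeometry Opposite CategoryTheory.Abelian

noncomputable section

namespace Groth.Agent.AdH023

theorem eq_zero_of_resHU (K : Precoverage Scheme.{u}) {S : Scheme.{u}} (F : BigSite.Ab K S) {T : Over S} {ι : Type*}
    {T' : ι → Over S} (g : ∀ i, T' i ⟶ T)
    (hsep : ∀ s : ((BigSite.pullBig K T.hom AddCommGrpCat.{u + 1}).obj F).obj.obj (op (Over.mk (𝟙 T.left))),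
      (∀ i, ((BigSite.pullBig K T.hom AddCommGrpCat.{u + 1}).obj F).obj.map
        ((Over.mkIdTerminal.from ((Over.map (g i).left).obj (Over.mk (𝟙 (T' i).left)))).op) s = 0) → s = 0)
    (x : BigSite.HU K F 0 T) (h : ∀ i, HRes.resHU K F 0 (g i) x = 0) : x = 0 := by
  obtain ⟨φ, rfl⟩ := (Ext.mk₀_bijective _ _).2 x
  have hP : ∀ i, (BigSite.pullBig K (g i).left AddCommGrpCat.{u + 1}).map φ = 0 := fun i => by
    have h1 := h i
    rw [HRes.resHU, AddMonoidHom.comp_apply, HRes.pull_apply, Ext.mapExactFunctor_mk₀, Ext.mk₀_comp_mk₀,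
      Sheaf.H.map_apply, Ext.mk₀_comp_mk₀, ← Ext.mk₀_zero] at h1
    have h2 := (Ext.mk₀_bijective _ _).1 h1
    rw [Category.assoc] at h2
    have h3 := (cancel_epi _).1 (h2.trans (comp_zero (f := (HRes.pullConst K (g i).left _).inv)).symm)
    exact (cancel_mono _).1 (h3.trans (zero_comp (f := (HRes.pullIso K F (g i)).hom)).symm)
  rw [hom_eq_zero_of_app _ Over.mkIdTerminal (fun i => (Over.map (g i).left).obj (Over.mk (𝟙 (T' i).left))) φ
    (fun i => congrArg (fun t => t.hom.app (op (Over.mk (𝟙 (T' i).left)))) (hP i)) hsep, Ext.mk₀_zero]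

end Groth.Agent.AdH023
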